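import Cfsg.Agent.Lib.Recog.SporBound.Sound
import Cfsg.Agent.Lib.Recog.SporBound.SpiderC7.Tree0

set_option autoImplicit false
set_option maxRecDepth 20000

/-! Generated closure certificate: Spider relation inside the Y522 quotient (owner: helper21). -/

namespace CfsgLib.Recog.SporBound.SpiderC7
open CfsgLib.Recog.SporBound

noncomputable def factTree : Q (ℕ) := ft7
noncomputable def nodeTree : Q (ℕ) := ct0
noncomputable def stepTree : Q (List ℕ) := st12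
noncomputable def finalTree : Q (List ℕ) := (.node et5 et10 et15 et20)

/-- The certificate. -/
noncomputable def cert : Cert where
  n := 120
  nd := 142
  nf := 872
  kl := [0, 1, 2, 3, 4, 5, 6, 8, 9]
  facts := factTree
  cn := nodeTree
  steps := stepTree
  finals := finalTree
  rels := [[0, 0], [1, 1], [2, 2], [3, 3], [4, 4], [5, 5], [6, 6], [8, 8], [9, 9], [0, 1, 0, 1, 0, 1], [0, 2, 0, 2], [0, 3, 0, 3], [0, 4, 0, 4], [0, 5, 0, 5], [0, 6, 0, 6], [0, 8, 0, 8, 0, 8], [0, 9, 0, 9], [1, 2, 1, 2, 1, 2], [1, 3, 1, 3], [1, 4, 1, 4], [1, 5, 1, 5], [1, 6, 1, 6], [1, 8, 1, 8], [1, 9, 1, 9], [2, 3, 2, 3, 2, 3], [2, 4, 2, 4], [2, 5, 2, 5], [2, 6, 2, 6], [2, 8, 2, 8], [2, 9, 2, 9], [3, 4, 3, 4, 3, 4], [3, 5, 3, 5], [3, 6, 3, 6, 3, 6], [3, 8, 3, 8], [3, 9, 3, 9], [4, 5, 4, 5, 4, 5], [4, 6, 4, 6], [4, 8, 4, 8], [4, 9, 4, 9], [5, 6, 5, 6], [5, 8, 5, 8], [5, 9,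 5, 9], [6, 8, 6, 8], [6, 9, 6, 9], [8, 9, 8, 9, 8, 9], [9, 6, 5, 4, 3, 2, 1, 0, 6, 5, 4, 3, 2, 1, 0, 6, 5, 4, 3, 2, 1, 0, 6, 5, 4, 3, 2, 1, 0, 6, 5, 4, 3, 2, 1, 0, 6, 5, 4, 3, 2, 1, 0, 6, 5, 4, 3, 2, 1, 0, 6, 5, 4, 3, 2, 1, 0, 6, 5, 4, 3, 2, 1, 0]]
  subs := [[0], [1], [2], [3], [4], [5], [6]]

/-- Chains of the traced words. -/
noncomputable def closers : List ℕ := []

end CfsgLib.Recog.SporBound.SpiderC7
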